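import Groth.Agent.FlatLoc6.GeomProp
import Mathlib.RingTheory.GradedAlgebra.HomogeneousLocalization
import Mathlib.RingTheory.Flat.EquationalCriterion
import Mathlib.RingTheory.Flat.FaithfullyFlat.Algebra

/-!
# Homogeneous localizations at primes missing elements of two consecutive degrees
-/

set_option autoImplicit false
set_option linter.style.haveILetI false

universe u

open DirectSum

namespace Groth.Agent.GrProj6

variable {A : Type u} [CommRing A] (𝒜 : ℕ → AddSubgroup A) [GradedRing 𝒜] (p : Ideal A) [p.IsPrime]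

theorem flat_atPrime {d : ℕ} {f g : A} (hf : f ∈ 𝒜 d) (hg : g ∈ 𝒜 (d + 1)) (hfp : f ∉ p) (hgp : g ∉ p) :
    Module.Flat (HomogeneousLocalization.AtPrime 𝒜 p) (Localization.AtPrime p) := by
  classical
  let B := Localization.AtPrime p
  let C := HomogeneousLocalization.AtPrime 𝒜 p
  let φ := algebraMap A B
  have hu : ∀ {z : A}, z ∉ p → IsUnit (φ z) := fun {z} hz => IsLocalization.map_units B (⟨z, hz⟩ : p.primeCompl)
  rw [Module.Flat.iff_forall_isTrivialRelation]
  intro l c b hrel
  choose q hq using fun i => HomogeneousLocalization.mk_surjective (c i)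
  let D := ∑ i, (q i).deg
  let T := ∏ i, ((q i).den : A)
  have hT : T ∉ p := (Submonoid.prod_mem p.primeCompl fun i _ => (q i).den_mem)
  let N : Fin l → A := fun i => (q i).num * ∏ j ∈ Finset.univ.erase i, ((q j).den : A)
  have hN : ∀ i, N i ∈ 𝒜 D := fun i => by
    show _ ∈ 𝒜 (∑ j, (q j).deg)
    rw [← Finset.add_sum_erase _ _ (Finset.mem_univ i)]
    exact SetLike.mul_mem_graded (q i).num.2
      (SetLike.prod_mem_graded (A := 𝒜) (fun j => (q j).deg) (fun j => ((q j).den : A)) (fun j _ => (q j).den.2))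
  have hNc : ∀ i, φ (N i) = (c i).val * φ T := fun i => by
    rw [← hq i, HomogeneousLocalization.val_mk, Localization.mk_eq_mk']
    show φ ((q i).num * ∏ j ∈ Finset.univ.erase i, ((q j).den : A)) = _
    rw [show T = ((q i).den : A) * ∏ j ∈ Finset.univ.erase i, ((q j).den : A) from
      (Finset.mul_prod_erase _ _ (Finset.mem_univ i)).symm, map_mul, map_mul, ← mul_assoc]
    congr 1
    exact (IsLocalization.mk'_spec B ((q i).num : A) (⟨(q i).den, (q i).den_mem⟩ : p.primeCompl)).symm
  obtain ⟨⟨s, hs⟩, hint⟩ := IsLocalization.exist_integer_multiples_of_finite p.primeCompl b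
  choose a ha using hint
  have ha' : ∀ i, φ (a i) = φ s * b i := fun i => (ha i).trans (Algebra.smul_def _ _)
  have h0 : φ (∑ i, N i * a i) = 0 := by
    rw [map_sum]
    have : ∑ i, φ (N i * a i) = (φ T * φ s) * ∑ i, c i • b i := by
      rw [Finset.mul_sum]
      refine Finset.sum_congr rfl fun i _ => ?_
      rw [map_mul, hNc, ha', Algebra.smul_def, HomogeneousLocalization.algebraMap_apply]
      ring
    rw [this, hrel, mul_zero]
  obtain ⟨⟨w, hw⟩, hw0⟩ := (IsLocalization.map_eq_zero_iff p.primeCompl B _).1 h0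
  let comp : ℕ → Fin l → A := fun m i => (decompose 𝒜 (w * a i) m : A)
  have hcomp : ∀ m, ∑ i, N i * comp m i = 0 := by
    intro m
    have h1 : ∑ i, (decompose 𝒜 (N i * (w * a i)) (D + m) : A) = 0 := by
      have h2 := congrArg (fun z : A => (decompose 𝒜 z (D + m) : A))
        (show ∑ i, N i * (w * a i) = 0 by
          rw [← hw0, Finset.mul_sum]
          exact Finset.sum_congr rfl fun i _ => by ring)
      simpa [decompose_sum, DFinsupp.finsetSum_apply] using h2
    rw [← h1]
    refine Finset.sum_congr rfl fun i _ => ?_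
    rw [DirectSum.coe_decompose_mul_add_of_left_mem 𝒜 (hN i)]
  let Z : Finset ℕ := Finset.univ.biUnion fun i => (decompose 𝒜 (w * a i)).support
  let e : Fin l → ℕ → C := fun i m => HomogeneousLocalization.mk
    { deg := m + m * d + 0
      num := ⟨comp m i * f ^ m, by
        rw [add_zero]
        exact SetLike.mul_mem_graded (decompose 𝒜 (w * a i) m).2 (by simpa using SetLike.pow_mem_graded m hf)⟩
      den := ⟨g ^ m, by
        have h := SetLike.pow_mem_graded m hg
        rwa [smul_eq_mul, show m * (d + 1) = m + m * d + 0 by ring] at h⟩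
      den_mem := fun h => hgp (Ideal.IsPrime.mem_of_pow_mem inferInstance m h) }
  have he : ∀ i m, (e i m).val * φ (g ^ m) = φ (comp m i * f ^ m) := fun i m => by
    rw [HomogeneousLocalization.val_mk, Localization.mk_eq_mk']
    exact IsLocalization.mk'_spec B (comp m i * f ^ m)
      (⟨g ^ m, fun h => hgp (Ideal.IsPrime.mem_of_pow_mem inferInstance m h)⟩ : p.primeCompl)
  let y : ℕ → B := fun m => IsLocalization.mk' B (g ^ m)
    (⟨f ^ m * (w * s), p.primeCompl.mul_mem (p.primeCompl.pow_mem (x := f) hfp m) (p.primeCompl.mul_mem hw hs)⟩ : p.primeCompl)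
  have hy : ∀ m, y m * φ (f ^ m * (w * s)) = φ (g ^ m) := fun m => IsLocalization.mk'_spec B _ _
  have hey : ∀ i m, (e i m).val * y m * φ (w * s) = φ (comp m i) := fun i m => by
    apply (hu (fun h => hfp (Ideal.IsPrime.mem_of_pow_mem inferInstance m h))).mul_left_inj.1
    calc (e i m).val * y m * φ (w * s) * φ (f ^ m) = (e i m).val * (y m * φ (f ^ m * (w * s))) := by
          rw [map_mul φ (f ^ m)]; ring
      _ = φ (comp m i * f ^ m) := by rw [hy, he]
      _ = φ (comp m i) * φ (f ^ m) := map_mul _ _ _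
  refine ⟨Z.card, fun i j => e i (Z.equivFin.symm j), fun j => y (Z.equivFin.symm j), fun i => ?_, fun j => ?_⟩
  · apply (hu (show w * s ∉ p from p.primeCompl.mul_mem hw hs)).mul_left_inj.1
    rw [Finset.sum_mul, Equiv.sum_comp Z.equivFin.symm (fun m : Z => e i m • y m * φ (w * s))]
    rw [Finset.sum_coe_sort Z (fun m => e i m • y m * φ (w * s))]
    rw [Finset.sum_congr rfl fun m _ => show e i m • y m * φ (w * s) = φ (comp m i) by
      rw [Algebra.smul_def]; exact hey i m]
    rw [← map_sum, map_mul, mul_comm (φ w), ← mul_assoc, mul_comm (b i), ← ha', ← map_mul, mul_comm (a i) w]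
    congr 1
    conv_lhs => rw [← sum_support_decompose 𝒜 (w * a i)]
    exact Finset.sum_subset (fun m hm => Finset.mem_biUnion.2 ⟨i, Finset.mem_univ _, hm⟩)
      (fun m _ hm => by rw [DFinsupp.notMem_support_iff.1 hm]; rfl)
  · set m : ℕ := ↑(Z.equivFin.symm j)
    apply HomogeneousLocalization.val_injective
    rw [HomogeneousLocalization.val_zero]
    apply ((hu hT).mul (hu (fun h => hgp (Ideal.IsPrime.mem_of_pow_mem inferInstance m h)))).mul_left_inj.1
    rw [zero_mul, ← HomogeneousLocalization.algebraMap_apply, map_sum, Finset.sum_mul]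
    have : ∀ i, algebraMap C B (c i * e i m) * (φ T * φ (g ^ m)) = φ (N i * comp m i * f ^ m) := fun i => by
      rw [map_mul, HomogeneousLocalization.algebraMap_apply, HomogeneousLocalization.algebraMap_apply,
        mul_assoc (N i), map_mul φ (N i), hNc, ← he]
      ring
    rw [Finset.sum_congr rfl fun i _ => this i, ← map_sum, ← Finset.sum_mul, hcomp, zero_mul, map_zero]

theorem isNoetherianRing_and_flat [IsNoetherianRing A] {d : ℕ} {f g : A} (hf : f ∈ 𝒜 d) (hg : g ∈ 𝒜 (d + 1))
    (hfp : f ∉ p) (hgp : g ∉ p) :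
    IsNoetherianRing (HomogeneousLocalization.AtPrime 𝒜 p) ∧
      IsLocalHom (algebraMap (HomogeneousLocalization.AtPrime 𝒜 p) (Localization.AtPrime p)) ∧
      Module.Flat (HomogeneousLocalization.AtPrime 𝒜 p) (Localization.AtPrime p) := by
  haveI hloc : IsLocalHom (algebraMap (HomogeneousLocalization.AtPrime 𝒜 p) (Localization.AtPrime p)) :=
    ⟨fun z hz => (HomogeneousLocalization.isUnit_iff_isUnit_val 𝒜 p z).1 hz⟩
  haveI := flat_atPrime 𝒜 p hf hg hfp hgp
  haveI : Module.FaithfullyFlat (HomogeneousLocalization.AtPrime 𝒜 p) (Localization.AtPrime p) :=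
    Module.FaithfullyFlat.of_flat_of_isLocalHom
  haveI : IsNoetherianRing (Localization.AtPrime p) := IsLocalization.isNoetherianRing p.primeCompl _ inferInstance
  exact ⟨FlatLoc6.isNoetherianRing_of_faithfullyFlat _ (Localization.AtPrime p), hloc, inferInstance⟩

end Groth.Agent.GrProj6
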